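import Groth.Agent.K0PerfLib.Vect
import Groth.Agent.S9498
import Groth.Agent.MiscFlat6.TildeFin
import Groth.Agent.QCohLib.AffineFinite

/-!
# `K₀` of finite projective modules and of vector bundles on the spectrum
-/

set_option autoImplicit false
set_option linter.style.haveILetI false
set_option backward.isDefEq.respectTransparency false
set_option backward.isDefEq.respectTransparency.types false

universe u

open CategoryTheory CategoryTheory.Limits AlgebraicGeometry
open Groth.Agent

attribute [local instance] HasDerivedCategory.standard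

namespace K0PerfLib

variable (A : CommRingCat.{u})

/-- Finite projective modules. -/
abbrev fproj : ObjectProperty (ModuleCat.{u} A) := fun M => Module.Finite A M ∧ Module.Projective A M

local notation "SA" => Spec A

instance : (fproj A).IsClosedUnderIsomorphisms := ⟨fun {M N} e h => by
  haveI := h.1
  haveI := h.2
  exact ⟨Module.Finite.equiv e.toLinearEquiv, Module.Projective.of_equiv e.toLinearEquiv⟩⟩

open scoped ZeroObject in
instance : (fproj A).ContainsZero := ⟨_, isZero_zero _, by
  haveI : Subsingleton (0 : ModuleCat.{u} A) := ModuleCat.subsingleton_of_isZero (isZero_zero _)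
  exact ⟨inferInstance, inferInstance⟩⟩

theorem isFinLocFree_tilde {M : ModuleCat.{u} A} (h : fproj A M) :
    FlatMod.IsFinLocFree ((tilde.functor A).obj M) :=
  (MiscFlat6.isFinLocFree_iff (R := A) M).2 h

/-- A vector bundle is the tilde of a finite projective module. -/
theorem exists_fproj {E : (SA).Modules} (h : FlatMod.IsFinLocFree E) :
    ∃ M : ModuleCat.{u} A, fproj A M ∧ Nonempty ((tilde.functor A).obj M ≅ E) := by
  haveI : E.IsQuasicoherent := FinLFAnn.isQCoh_of_isFinLocFree h
  haveI := Scheme.Modules.isIso_fromTildeΓ_of_isQuasicoherent E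
  let e : (tilde.functor A).obj ((moduleSpecΓFunctor (R := A)).obj E) ≅ E :=
    asIso E.fromTildeΓ
  exact ⟨_, (MiscFlat6.isFinLocFree_iff (R := A) _).1 (PerfLib.isFinLocFree_of_iso e.symm h), ⟨e⟩⟩

theorem hasResolutionProperty_spec : PerfAux.HasResolutionProperty (SA) := fun M hM hft => by
  haveI : Coh.IsQCoh M := hM
  haveI : M.IsQuasicoherent := hM
  haveI := Scheme.Modules.isIso_fromTildeΓ_of_isQuasicoherent M
  let N : ModuleCat.{u} A := (moduleSpecΓFunctor (R := A)).obj M
  have hN : Module.Finite A N := by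
    exact (MiscFlat6.isFT_iff (R := A) N).1 (QCohLib.isFT_of_epi (asIso M.fromTildeΓ).inv hft)
  obtain ⟨n, f, hf⟩ := Module.Finite.exists_fin' A N
  haveI := (S9498.result ↥A).2
  haveI : Epi (ModuleCat.ofHom f) := (ModuleCat.epi_iff_surjective _).2 hf
  refine ⟨(tilde.functor A).obj (ModuleCat.of A (Fin n → A)),
    (tilde.functor A).map (ModuleCat.ofHom f) ≫ M.fromTildeΓ,
    isFinLocFree_tilde A ⟨inferInstance, inferInstance⟩, ?_⟩
  exact epi_comp _ _

/-- The comparison. -/
theorem exists_equiv_vb :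
    ∃ φ : KZero.K0sub (fproj A) ≃+ KZero.K0sub (vb (SA)),
      ∀ M, fproj A M → φ (KZero.clSub (fproj A) M) = KZero.clSub (vb (SA)) ((tilde.functor A).obj M) := by
  haveI := (S9498.result ↥A).1
  haveI := (S9498.result ↥A).2
  let T := tilde.functor A
  haveI : (moduleSpecΓFunctor (R := A)).Additive :=
    (tilde.adjunction (R := A)).right_adjoint_additive
  have hex : ∀ S : ShortComplex (ModuleCat.{u} A), S.ShortExact → (S.map T).ShortExact := fun S hS =>
    hS.map_of_exact T
  obtain ⟨φ₀, hφ⟩ := KHeartLib.exists_lift_sub (fproj A) (fun M => KZero.clSub (vb (SA)) (T.obj M))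
    (fun S hS h₁ h₂ h₃ => KHeartLib.clSub_add (vb (SA)) _ (hex S hS) (isFinLocFree_tilde A h₁)
      (isFinLocFree_tilde A h₂) (isFinLocFree_tilde A h₃))
  let g : (SA).Modules → KZero.K0sub (fproj A) := fun E =>
    KZero.clSub (fproj A) ((moduleSpecΓFunctor (R := A)).obj E)
  have hΓ : ∀ {E : (SA).Modules}, FlatMod.IsFinLocFree E →
      fproj A ((moduleSpecΓFunctor (R := A)).obj E) ∧ IsIso E.fromTildeΓ := fun {E} h => by
    haveI : E.IsQuasicoherent := FinLFAnn.isQCoh_of_isFinLocFree h
    haveI := Scheme.Modules.isIso_fromTildeΓ_of_isQuasicoherent E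
    exact ⟨(MiscFlat6.isFinLocFree_iff (R := A) _).1
      (PerfLib.isFinLocFree_of_iso (asIso E.fromTildeΓ).symm h), inferInstance⟩
  obtain ⟨ψ₀, hψ⟩ := KHeartLib.exists_lift_sub (vb (SA)) g (fun S hS h₁ h₂ h₃ => by
    haveI := (hΓ h₁).2
    haveI := (hΓ h₂).2
    haveI := (hΓ h₃).2
    refine KHeartLib.clSub_add (fproj A) (S.map (moduleSpecΓFunctor (R := A))) ?_ (hΓ h₁).1 (hΓ h₂).1 (hΓ h₃).1
    let e : (S.map (moduleSpecΓFunctor (R := A))).map T ≅ S :=
      ShortComplex.isoMk (asIso S.X₁.fromTildeΓ) (asIso S.X₂.fromTildeΓ) (asIso S.X₃.fromTildeΓ)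
        ((tilde.adjunction (R := A)).counit.naturality S.f).symm
        ((tilde.adjunction (R := A)).counit.naturality S.g).symm
    have h := ShortComplex.shortExact_of_iso e.symm hS
    exact { exact := (ShortComplex.exact_map_iff_of_faithful _ T).1 h.exact
            mono_f := T.mono_of_mono_map h.mono_f
            epi_g := T.epi_of_epi_map h.epi_g })
  have hl : ∀ x, ψ₀ (φ₀ x) = x := fun x => DFunLike.congr_fun
    (show ψ₀.comp φ₀ = AddMonoidHom.id _ from
      AddMonoidHom.eq_of_eqOn_dense (KHeartLib.clSub_closure_eq_top (fproj A)) (by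
        rintro _ ⟨M, hM, rfl⟩
        rw [AddMonoidHom.comp_apply, hφ M hM, hψ _ (isFinLocFree_tilde A hM), AddMonoidHom.id_apply]
        exact KHeartLib.clSub_congr _ (asIso ((tilde.adjunction (R := A)).unit.app M)).symm)) x
  have hr : ∀ y, φ₀ (ψ₀ y) = y := fun y => DFunLike.congr_fun
    (show φ₀.comp ψ₀ = AddMonoidHom.id _ from
      AddMonoidHom.eq_of_eqOn_dense (KHeartLib.clSub_closure_eq_top (vb (SA))) (by
        rintro _ ⟨E, hE, rfl⟩
        haveI := (hΓ hE).2
        rw [AddMonoidHom.comp_apply, hψ E hE, hφ _ (hΓ hE).1, AddMonoidHom.id_apply]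
        exact KHeartLib.clSub_congr _ (asIso E.fromTildeΓ))) y
  exact ⟨AddMonoidHom.toAddEquiv φ₀ ψ₀ (AddMonoidHom.ext hl) (AddMonoidHom.ext hr), fun M hM => hφ M hM⟩

end K0PerfLib
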