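import Groth.Agent.KHeartLib.Classes
import Mathlib.Algebra.BigOperators.Finprod
import Mathlib.Algebra.Homology.DerivedCategory.SingleTriangle
import Mathlib.Algebra.Ring.NegOnePow
import Mathlib.Data.Int.Interval

/-!
# Euler characteristics of bounded complexes in an exact subcategory
-/

set_option autoImplicit false
set_option linter.style.haveILetI false
set_option linter.unusedSectionVars false
set_option backward.isDefEq.respectTransparency false
set_option backward.isDefEq.respectTransparency.types false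

universe w v u

open CategoryTheory CategoryTheory.Limits HomologicalComplex
open CategoryTheory.Pretriangulated (Triangle)

namespace K0PerfLib

open Groth.Agent.KHeartLib (clSub_add clSub_eq_zero clSub_congr)

variable {A : Type u} [Category.{v} A] [Abelian A] (P : ObjectProperty A)

/-- Closure under binary sums. -/
def BiprodClosed : Prop := ∀ {M N : A}, P M → P N → P (M ⊞ N)

/-- Closure under kernels of epimorphisms. -/
def KerEpi : Prop := ∀ {M N : A} (p : M ⟶ N) [Epi p], P M → P N → P (kernel p)

variable {P} [P.IsClosedUnderIsomorphisms] [P.ContainsZero]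

theorem clSub_biprod (hb : BiprodClosed P) {M N : A} (hM : P M) (hN : P N) :
    KZero.clSub P (M ⊞ N) = KZero.clSub P M + KZero.clSub P N :=
  clSub_add P (ShortComplex.mk (biprod.inl : M ⟶ M ⊞ N) (biprod.snd : M ⊞ N ⟶ N) (by simp))
    ((ShortComplex.Splitting.ofHasBinaryBiproduct M N).shortExact) hM (hb hM hN) hN

/-- The alternating sum of the classes of the terms. -/
noncomputable def chi (P : ObjectProperty A) (E : CochainComplex A ℤ) : KZero.K0sub P :=
  ∑ᶠ i : ℤ, ((i.negOnePow : ℤˣ) : ℤ) • KZero.clSub P (E.X i)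

/-- A bounded complex of finite projective modules. -/
def Bdd (P : ObjectProperty A) (E : CochainComplex A ℤ) : Prop :=
  (∀ i, P (E.X i)) ∧ ∃ a b : ℤ, ∀ i, (i < a ∨ b < i) → IsZero (E.X i)

theorem support_finite' (f : ℤ → KZero.K0sub P) (a b : ℤ)
    (h : ∀ i, (i < a ∨ b < i) → f i = 0) : (Function.support f).Finite :=
  (Set.finite_Icc a b).subset fun i hi => by
    by_contra h'
    exact hi (h i (by simp only [Set.mem_Icc, not_and, not_le] at h'; omega))

theorem chi_finite {E : CochainComplex A ℤ} (hE : Bdd P E) :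
    (Function.support fun i : ℤ => ((i.negOnePow : ℤˣ) : ℤ) • KZero.clSub P (E.X i)).Finite := by
  obtain ⟨a, b, h⟩ := hE.2
  exact support_finite' _ a b fun i hi => by
    rw [clSub_eq_zero _ (hE.1 i) (h i hi), smul_zero]

/-- Telescoping sums. -/
theorem finsum_telescope (k : ℤ → KZero.K0sub P) (a b : ℤ)
    (hk : ∀ i, (i < a ∨ b < i) → k i = 0) :
    ∑ᶠ i : ℤ, ((i.negOnePow : ℤˣ) : ℤ) • (k i + k (i + 1)) = 0 := by
  let g : ℤ → KZero.K0sub P := fun i => ((i.negOnePow : ℤˣ) : ℤ) • k i
  have fg : (Function.support g).Finite :=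
    support_finite' _ a b fun i hi => by simp only [g, hk i hi, smul_zero]
  have fg' : (Function.support fun i => g (i + 1)).Finite :=
    support_finite' _ (a - 1) b fun i hi => by simp only [g, hk (i + 1) (by omega), smul_zero]
  have h : ∀ i : ℤ, ((i.negOnePow : ℤˣ) : ℤ) • (k i + k (i + 1)) = g i - g (i + 1) := fun i => by
    rw [smul_add, sub_eq_add_neg]
    simp only [g, Int.negOnePow_succ, Units.val_neg, neg_smul, neg_neg]
  rw [finsum_congr h, finsum_sub_distrib fg fg',
    finsum_eq_of_bijective (f := fun i : ℤ => g (i + 1)) (g := g) (fun i : ℤ => i + 1)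
      (Equiv.addRight (1 : ℤ)).bijective (fun _ => rfl), sub_self]

theorem chi_acyclic (hk : KerEpi P) {E : CochainComplex A ℤ} (hE : Bdd P E)
    (h : ∀ i, E.ExactAt i) : chi P E = 0 := by
  obtain ⟨hp, a, b, hz⟩ := id hE
  have hzZ : ∀ i, (i < a ∨ b < i) → IsZero (E.cycles i) := fun i hi => (hz i hi).of_mono (E.iCycles i)
  have hepi : ∀ i, Epi (E.toCycles i (i + 1)) := fun i => by
    have := h (i + 1)
    rw [exactAt_iff_isZero_homology] at this
    exact Preadditive.epi_of_isZero_cokernel' _ (E.homologyIsCokernel i (i + 1) (by simp)) this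
  have hS : ∀ i, (ShortComplex.mk (E.iCycles i) (E.toCycles i (i + 1))
      (by rw [← cancel_mono (E.iCycles (i + 1))]; simp)).ShortExact := fun i =>
    haveI := hepi i
    { exact := ShortComplex.exact_of_f_is_kernel _ (isKernelOfComp (E.iCycles (i + 1))
        (f := E.toCycles i (i + 1)) (h := E.d i (i + 1))
        (E.cyclesIsKernel i (i + 1) (by simp)) (by rw [← cancel_mono (E.iCycles (i + 1))]; simp)
        (E.toCycles_i i (i + 1))) }
  have hZ : ∀ (n : ℕ) (i : ℤ), b + 1 ≤ i + n → P (E.cycles i) := by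
    intro n
    induction n with
    | zero => exact fun i hi => P.prop_of_isZero (hzZ i (by omega))
    | succ n ih =>
      intro i hi
      have h1 := ih (i + 1) (by push_cast at hi; omega)
      haveI := hepi i
      exact P.prop_of_iso ((kernelIsKernel (E.toCycles i (i + 1))).conePointUniqueUpToIso (hS i).fIsKernel)
        (hk _ (hp i) h1)
  let k : ℤ → KZero.K0sub P := fun i => KZero.clSub P (E.cycles i)
  have hP : ∀ i, P (E.cycles i) := fun i => hZ (b + 1 - i).toNat i (by omega)
  have e : ∀ i, KZero.clSub P (E.X i) = k i + k (i + 1) := fun i =>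
    clSub_add P _ (hS i) (hP i) (hp i) (hP (i + 1))
  rw [chi, finsum_congr fun i => by rw [e i]]
  exact finsum_telescope k a b fun i hi => clSub_eq_zero _ (hP i) (hzZ i hi)

theorem bdd_cone (hb : BiprodClosed P) {E F : CochainComplex A ℤ} (f : E ⟶ F) (hE : Bdd P E) (hF : Bdd P F) :
    Bdd P (CochainComplex.mappingCone f) := by
  obtain ⟨h₁, a, b, hz⟩ := hE
  obtain ⟨h₂, c, d, hw⟩ := hF
  let e : ∀ i : ℤ, (CochainComplex.mappingCone f).X i ≅ E.X (i + 1) ⊞ F.X i := fun i =>
    homotopyCofiber.XIsoBiprod f i (i + 1) rfl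
  refine ⟨fun i => P.prop_of_iso (e i).symm (hb (h₁ _) (h₂ i)), min (a - 1) c, max b d,
    fun i hi => IsZero.of_iso ?_ (e i)⟩
  rw [biprod_isZero_iff]
  exact ⟨hz _ (by omega), hw _ (by omega)⟩

theorem chi_cone (hb : BiprodClosed P) {E F : CochainComplex A ℤ} (f : E ⟶ F) (hE : Bdd P E) (hF : Bdd P F) :
    chi P (CochainComplex.mappingCone f) = chi P F - chi P E := by
  let e : ∀ i : ℤ, (CochainComplex.mappingCone f).X i ≅ E.X (i + 1) ⊞ F.X i := fun i =>
    homotopyCofiber.XIsoBiprod f i (i + 1) rfl
  have h : ∀ i : ℤ, ((i.negOnePow : ℤˣ) : ℤ) • KZero.clSub P ((CochainComplex.mappingCone f).X i) =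
      ((i.negOnePow : ℤˣ) : ℤ) • KZero.clSub P (F.X i) -
        (((i + 1).negOnePow : ℤˣ) : ℤ) • KZero.clSub P (E.X (i + 1)) := fun i => by
    rw [clSub_congr P (e i), clSub_biprod hb (hE.1 _) (hF.1 i), smul_add, Int.negOnePow_succ,
      Units.val_neg, neg_smul, sub_neg_eq_add, add_comm]
  have fE : (Function.support fun i : ℤ =>
      (((i + 1).negOnePow : ℤˣ) : ℤ) • KZero.clSub P (E.X (i + 1))).Finite := by
    obtain ⟨hp, a, b, hz⟩ := hE
    exact support_finite' _ (a - 1) b fun i hi => by
      rw [clSub_eq_zero _ (hp _) (hz _ (by omega)), smul_zero]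
  rw [chi, finsum_congr h, finsum_sub_distrib (chi_finite hF) fE,
    finsum_eq_of_bijective (f := fun i : ℤ => (((i + 1).negOnePow : ℤˣ) : ℤ) • KZero.clSub P (E.X (i + 1)))
      (g := fun i : ℤ => ((i.negOnePow : ℤˣ) : ℤ) • KZero.clSub P (E.X i)) (fun i : ℤ => i + 1)
      (Equiv.addRight (1 : ℤ)).bijective (fun _ => rfl)]
  rfl


section Devissage

variable [HasDerivedCategory.{w} A]

open scoped ZeroObject

/-- A property stable under extensions which holds for the terms of a bounded complex holds for it. -/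
theorem of_terms (R : DerivedCategory A → Prop)
    (hiso : ∀ {X Y : DerivedCategory A}, (X ≅ Y) → R X → R Y)
    (hzero : ∀ {X : DerivedCategory A}, IsZero X → R X)
    (hext : ∀ T : Triangle (DerivedCategory A), T ∈ Pretriangulated.distinguishedTriangles →
      R T.obj₁ → R T.obj₃ → R T.obj₂) (c : ℤ) :
    ∀ (k : ℕ) (K : CochainComplex A ℤ), (∀ i, (i < c ∨ c + k ≤ i) → IsZero (K.X i)) →
      (∀ i, R ((DerivedCategory.singleFunctor A i).obj (K.X i))) → R (DerivedCategory.Q.obj K) := by
  intro k
  induction k with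
  | zero =>
    exact fun K hK _ => hzero ((IsZero.iff_id_eq_zero _).2 (by
      rw [← DerivedCategory.Q.map_id, show 𝟙 K = 0 from HomologicalComplex.hom_ext _ _
        fun i => (hK i (by omega)).eq_of_src _ _, Functor.map_zero]))
  | succ k ih =>
    intro K hK h
    obtain ⟨b, hb⟩ : ∃ b, b = c + k := ⟨_, rfl⟩
    let S₀ := (single A (ComplexShape.up ℤ) b).obj (K.X b)
    let ι : S₀ ⟶ K := mkHomFromSingle (𝟙 (K.X b)) fun l hl => by
      obtain rfl : b + 1 = l := hl
      exact (hK (b + 1) (Or.inr (by push_cast; omega))).eq_of_tgt _ _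
    have hι : IsIso (ι.f b) := by
      rw [show ι.f b = (singleObjXSelf (ComplexShape.up ℤ) b (K.X b)).hom ≫ 𝟙 _ from
        mkHomFromSingle_f _ _, Category.comp_id]
      infer_instance
    have hmono : Mono ι := by
      refine mono_of_mono_f ι fun i => ?_
      by_cases h : i = b
      · subst h
        infer_instance
      · exact ⟨fun _ _ _ => (isZero_single_obj_X _ b _ i h).eq_of_tgt _ _⟩
    let S : ShortComplex (CochainComplex A ℤ) :=
      ShortComplex.mk ι (cokernel.π ι) (cokernel.condition ι)
    have hS : S.ShortExact :=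
      { exact := ShortComplex.exact_of_g_is_cokernel _ (cokernelIsCokernel ι) }
    have hdeg := (shortExact_iff_degreewise_shortExact S).mp hS
    have hC : ∀ i, i = b → IsZero (S.X₃.X i) := by
      rintro i rfl
      exact (hdeg i).isIso_f_iff.1 hι
    have hC' : ∀ i, i ≠ b → IsIso ((cokernel.π ι).f i) := fun i hi =>
      (hdeg i).isIso_g_iff.2 (isZero_single_obj_X (ComplexShape.up ℤ) b (K.X b) i hi)
    refine hext _ (DerivedCategory.triangleOfSES_distinguished hS)
      (hiso ((DerivedCategory.singleFunctorIsoCompQ A b).app (K.X b)) (h b))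
      (ih _ ?_ ?_)
    · intro i hi
      by_cases h : i = b
      · exact hC i h
      · have := hC' i h
        exact (hK i (by push_cast; omega)).of_iso (asIso ((cokernel.π ι).f i)).symm
    · intro i
      by_cases hi : i = b
      · exact hzero ((DerivedCategory.singleFunctor A i).map_isZero (hC i hi))
      · have := hC' i hi
        exact hiso ((DerivedCategory.singleFunctor A i).mapIso
          (asIso ((cokernel.π ι).f i))) (h i)

end Devissage

end K0PerfLib
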