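import Groth.Agent.K0PerfLib.Euler
import Groth.Agent.ResPropLib.Main
import Groth.Agent.PerfLib.Strict
import Groth.Prelude.Def_KZero
import Groth.Prelude.Def_PerfAux

/-!
# `K₀` of vector bundles and of perfect complexes
-/

set_option autoImplicit false
set_option linter.style.haveILetI false
set_option backward.isDefEq.respectTransparency false
set_option backward.isDefEq.respectTransparency.types false

universe u

open CategoryTheory CategoryTheory.Limits AlgebraicGeometry HomologicalComplex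
open CategoryTheory.Pretriangulated (Triangle)
open CategoryTheory.Abelian (Ext)
open Groth.Agent

attribute [local instance] HasDerivedCategory.standard

namespace K0PerfLib

variable {X : Scheme.{u}}

/-- Vector bundles. -/
abbrev vb (X : Scheme.{u}) : ObjectProperty X.Modules := fun M => FlatMod.IsFinLocFree M

/-- Perfect objects. -/
abbrev perf (X : Scheme.{u}) : ObjectProperty (DCoh.D X) := fun K => DCoh.IsPerfect K

instance : (vb X).IsClosedUnderIsomorphisms := ⟨fun e h => PerfLib.isFinLocFree_of_iso e h⟩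

open scoped ZeroObject in
instance : (vb X).ContainsZero := ⟨_, isZero_zero _,
  KFlatLib.isFinLocFree_of_isFinFree (KFlatLib.isFinFree_of_isZero (isZero_zero _))⟩

instance : (perf X).IsClosedUnderIsomorphisms := ⟨fun e h => PerfLib.isPerfect_of_iso e h⟩

open scoped ZeroObject in
instance : (perf X).ContainsZero := ⟨_, isZero_zero _, PerfLib.isPerfect_of_isZero (isZero_zero _)⟩

theorem vb_biprod : BiprodClosed (vb X) := fun hM hN => PerfLib.isFinLocFree_biprod hM hN

theorem vb_kerEpi : KerEpi (vb X) := fun p _ hM hN => ResPropLib.isFinLocFree_kernel p hM hN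

theorem bdd_of_sp {E : CochainComplex X.Modules ℤ} (h : DCoh.IsStrictlyPerfect E) : Bdd (vb X) E := by
  obtain ⟨⟨a, b, hz⟩, hf⟩ := h
  exact ⟨hf, a, b, fun i hi => hz i hi⟩

theorem chi_eq_of_quasiIso {E F : CochainComplex X.Modules ℤ} (g : E ⟶ F) (hE : DCoh.IsStrictlyPerfect E)
    (hF : DCoh.IsStrictlyPerfect F) [QuasiIso g] : chi (vb X) E = chi (vb X) F := by
  have h0 := chi_acyclic vb_kerEpi (bdd_cone vb_biprod g (bdd_of_sp hE) (bdd_of_sp hF)) fun i =>
    (exactAt_iff_isZero_homology _ i).2 ((KFlatLib.acyclic_cone_iff g).mpr inferInstance i)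
  rw [chi_cone vb_biprod g (bdd_of_sp hE) (bdd_of_sp hF), sub_eq_zero] at h0
  exact h0.symm

variable [CompactSpace X] [QuasiSeparatedSpace X] [HasExt.{u} X.Modules]

theorem chi_of_iso (hX : PerfAux.HasResolutionProperty X) {E F : CochainComplex X.Modules ℤ}
    (hE : DCoh.IsStrictlyPerfect E) (hF : DCoh.IsStrictlyPerfect F) (e : DCoh.toD X E ≅ DCoh.toD X F) :
    chi (vb X) E = chi (vb X) F := by
  obtain ⟨G, g, h, hG, hg, hgh⟩ := ResPropLib.exists_roof hX hE hF e.hom
  haveI := hg
  haveI : IsIso (DerivedCategory.Q.map h) := by rw [← hgh]; infer_instance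
  haveI : QuasiIso h := (DerivedCategory.isIso_Q_map_iff_quasiIso _ h).1 inferInstance
  rw [← chi_eq_of_quasiIso g hG hE, chi_eq_of_quasiIso h hG hF]

open Classical in
/-- The Euler characteristic of a perfect object. -/
noncomputable def chiD (hX : PerfAux.HasResolutionProperty X) (K : DCoh.D X) : KZero.K0sub (vb X) :=
  if h : DCoh.IsPerfect K then chi (vb X) (ResPropLib.exists_strictlyPerfect_iso hX K h).choose else 0

theorem chiD_eq (hX : PerfAux.HasResolutionProperty X) {E : CochainComplex X.Modules ℤ}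
    (hE : DCoh.IsStrictlyPerfect E) {K : DCoh.D X} (e : DCoh.toD X E ≅ K) : chiD hX K = chi (vb X) E := by
  have hK : DCoh.IsPerfect K := PerfLib.isPerfect_of_iso e (ResPropLib.isPerfect_toD_of_strictlyPerfect hE)
  rw [chiD, dif_pos hK]
  exact chi_of_iso hX (ResPropLib.exists_strictlyPerfect_iso hX K hK).choose_spec.1 hE
    ((ResPropLib.exists_strictlyPerfect_iso hX K hK).choose_spec.2.some ≪≫ e.symm)

theorem chiD_add (hX : PerfAux.HasResolutionProperty X) (T : Triangle (DCoh.D X))
    (hT : T ∈ Pretriangulated.distinguishedTriangles) (h₁ : DCoh.IsPerfect T.obj₁) (h₂ : DCoh.IsPerfect T.obj₂) :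
    chiD hX T.obj₂ = chiD hX T.obj₁ + chiD hX T.obj₃ := by
  obtain ⟨E, hE, ⟨e₁⟩⟩ := ResPropLib.exists_strictlyPerfect_iso hX _ h₁
  obtain ⟨F, hF, ⟨e₂⟩⟩ := ResPropLib.exists_strictlyPerfect_iso hX _ h₂
  obtain ⟨G, g, h, hG, hg, hgh⟩ := ResPropLib.exists_roof hX hE hF (e₁.hom ≫ T.mor₁ ≫ e₂.inv)
  haveI := hg
  let eG : DCoh.toD X G ≅ T.obj₁ := asIso (DerivedCategory.Q.map g) ≪≫ e₁
  let S := DerivedCategory.Q.mapTriangle.obj (CochainComplex.mappingCone.triangle h)
  have e₃ : DCoh.toD X (CochainComplex.mappingCone h) ≅ T.obj₃ :=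
    Triangle.π₃.mapIso (Pretriangulated.isoTriangleOfIso₁₂ S T
      ((DerivedCategory.mem_distTriang_iff S).2 ⟨_, _, h, ⟨Iso.refl _⟩⟩) hT eG e₂
      (by change DerivedCategory.Q.map h ≫ e₂.hom = eG.hom ≫ T.mor₁; rw [← hgh]; simp [eG]))
  rw [chiD_eq hX hG eG, chiD_eq hX hF e₂, chiD_eq hX (PerfLib.isStrictlyPerfect_cone h hG hF) e₃,
    chi_cone vb_biprod h (bdd_of_sp hG) (bdd_of_sp hF)]
  abel

omit [CompactSpace X] [QuasiSeparatedSpace X] [HasExt.{u} X.Modules] in
theorem sp_single {M : X.Modules} (hM : FlatMod.IsFinLocFree M) (n : ℤ) :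
    DCoh.IsStrictlyPerfect ((single X.Modules (ComplexShape.up ℤ) n).obj M) := by
  refine ⟨⟨n, n, fun i hi => isZero_single_obj_X _ n M i (by omega)⟩, fun i => ?_⟩
  by_cases h : i = n
  · subst h
    exact PerfLib.isFinLocFree_of_iso (singleObjXSelf (ComplexShape.up ℤ) i M).symm hM
  · exact KFlatLib.isFinLocFree_of_isFinFree (KFlatLib.isFinFree_of_isZero (isZero_single_obj_X _ n M i h))

omit [CompactSpace X] [QuasiSeparatedSpace X] [HasExt.{u} X.Modules] in
theorem perf_single {M : X.Modules} (hM : FlatMod.IsFinLocFree M) (n : ℤ) :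
    DCoh.IsPerfect ((DerivedCategory.singleFunctor X.Modules n).obj M) :=
  PerfLib.isPerfect_of_iso ((DerivedCategory.singleFunctorIsoCompQ X.Modules n).app M).symm
    (ResPropLib.isPerfect_toD_of_strictlyPerfect (sp_single hM n))

omit [CompactSpace X] [QuasiSeparatedSpace X] [HasExt.{u} X.Modules] in
theorem clTr_single {M : X.Modules} (hM : FlatMod.IsFinLocFree M) (n : ℤ) :
    KZero.clTr (perf X) ((DerivedCategory.singleFunctor X.Modules n).obj M) =
      ((n.negOnePow : ℤˣ) : ℤ) • KZero.clTr (perf X) ((DerivedCategory.singleFunctor X.Modules 0).obj M) := by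
  have step : ∀ m : ℤ,
      KZero.clTr (perf X) ((DerivedCategory.singleFunctor X.Modules m).obj M) =
      -KZero.clTr (perf X) ((DerivedCategory.singleFunctor X.Modules (m + 1)).obj M) := by
    intro m
    have e : ((DerivedCategory.singleFunctor X.Modules (m + 1)).obj M)⟦(1 : ℤ)⟧ ≅
        (DerivedCategory.singleFunctor X.Modules m).obj M :=
      ((DerivedCategory.singleFunctors X.Modules).shiftIso 1 m (m + 1) (by omega)).app M
    rw [← KHeartLib.clTr_congr _ e, KHeartLib.clTr_shift_one _ (perf_single hM _)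
      ((perf X).prop_of_iso e.symm (perf_single hM _))]
  induction n using Int.induction_on with
  | zero => simp
  | succ n ih =>
    rw [neg_eq_iff_eq_neg.1 (step n).symm, ih, Int.negOnePow_succ, Units.val_neg, neg_smul]
  | pred n ih =>
    rw [step (-(n : ℤ) - 1), show -(n : ℤ) - 1 + 1 = -(n : ℤ) by omega, ih,
      show Int.negOnePow (-(n : ℤ)) = -Int.negOnePow (-(n : ℤ) - 1) by
        rw [← Int.negOnePow_succ, show -(n : ℤ) - 1 + 1 = -(n : ℤ) by omega],
      Units.val_neg, neg_smul, neg_neg]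

omit [CompactSpace X] [QuasiSeparatedSpace X] [HasExt.{u} X.Modules] in
theorem chi_single {M : X.Modules} (hM : FlatMod.IsFinLocFree M) :
    chi (vb X) ((single X.Modules (ComplexShape.up ℤ) 0).obj M) = KZero.clSub (vb X) M := by
  rw [chi, finsum_eq_single _ 0 fun i hi => ?_]
  · rw [Int.negOnePow_zero, Units.val_one, one_smul]
    exact KHeartLib.clSub_congr _ (singleObjXSelf (ComplexShape.up ℤ) 0 M)
  · rw [KHeartLib.clSub_eq_zero _ ((sp_single hM 0).2 i) (isZero_single_obj_X _ 0 M i hi), smul_zero]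

/-- `K₀` of vector bundles is `K₀` of perfect complexes. -/
theorem exists_equiv (hX : PerfAux.HasResolutionProperty X) :
    ∃ φ : KZero.K0sub (vb X) ≃+ KZero.K0tr (perf X),
      ∀ E : X.Modules, FlatMod.IsFinLocFree E →
        φ (KZero.clSub (vb X) E) = KZero.clTr (perf X) (DCoh.inD X E) := by
  obtain ⟨φ₀, hφ⟩ := KHeartLib.exists_lift_sub (vb X)
    (fun M => KZero.clTr (perf X) ((DerivedCategory.singleFunctor X.Modules 0).obj M))
    (fun S hS h₁ h₂ h₃ => KHeartLib.clTr_add (perf X) hS.singleTriangle hS.singleTriangle_distinguished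
      (perf_single h₁ 0) (perf_single h₂ 0) (perf_single h₃ 0))
  obtain ⟨ψ₀, hψ⟩ := KHeartLib.exists_lift_tr (perf X) (chiD hX) (fun T hT h₁ h₂ _ => chiD_add hX T hT h₁ h₂)
  have hinv : ∀ x, ψ₀ (φ₀ x) = x := fun x => DFunLike.congr_fun
    (show ψ₀.comp φ₀ = AddMonoidHom.id _ from
      AddMonoidHom.eq_of_eqOn_dense (KHeartLib.clSub_closure_eq_top (vb X)) (by
        rintro _ ⟨M, hM, rfl⟩
        rw [AddMonoidHom.comp_apply, hφ M hM, hψ _ (perf_single hM 0), AddMonoidHom.id_apply,
          chiD_eq hX (sp_single hM 0)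
            ((DerivedCategory.singleFunctorIsoCompQ X.Modules 0).app M).symm,
          chi_single hM])) x
  have hsurj : ∀ y, y ∈ φ₀.range := by
    have htop : φ₀.range = ⊤ := by
      rw [eq_top_iff, ← KHeartLib.clTr_closure_eq_top (perf X), AddSubgroup.closure_le]
      rintro _ ⟨K, hK, rfl⟩
      obtain ⟨E, ⟨⟨a, b, hz⟩, hp⟩, ⟨e⟩⟩ := ResPropLib.exists_strictlyPerfect_iso hX K hK
      rw [← KHeartLib.clTr_congr (perf X) e]
      refine (of_terms (fun K : DCoh.D X => DCoh.IsPerfect K ∧ KZero.clTr (perf X) K ∈ φ₀.range)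
        (fun e h => ⟨PerfLib.isPerfect_of_iso e h.1, KHeartLib.clTr_congr (perf X) e ▸ h.2⟩)
        (fun h => ⟨PerfLib.isPerfect_of_isZero h,
            (KHeartLib.clTr_eq_zero (perf X) (PerfLib.isPerfect_of_isZero h) h).symm ▸ zero_mem _⟩)
        (fun T hT h₁ h₃ =>
            have h₂ := PerfLib.isPerfect_obj₂ T hT h₁.1 h₃.1
            ⟨h₂, (KHeartLib.clTr_add (perf X) T hT h₁.1 h₂ h₃.1).symm ▸ add_mem h₁.2 h₃.2⟩)
        a (b + 1 - a).toNat E (fun i hi => hz i (by omega)) fun i => ⟨perf_single (hp i) i, ?_⟩).2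
      rw [clTr_single (hp i) i, ← hφ _ (hp i)]
      exact φ₀.range.zsmul_mem ⟨_, rfl⟩ _
    exact fun y => htop ▸ AddSubgroup.mem_top y
  exact ⟨AddEquiv.ofBijective φ₀ ⟨Function.LeftInverse.injective hinv, hsurj⟩, fun E hE => hφ E hE⟩

end K0PerfLib
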